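import Groth.Agent.Triage.CMMor
import Groth.Agent.AvramovLib.Main
import Groth.Agent.KRegLib.CIMor
import Groth.Agent.S0114
import Groth.Prelude.Def_CInt
import Mathlib.AlgebraicGeometry.Morphisms.Flat

/-! Complete intersection morphisms along a faithfully flat cover of the source. -/

set_option autoImplicit false
set_option backward.isDefEq.respectTransparency false
set_option backward.isDefEq.respectTransparency.types false

universe u

open AlgebraicGeometry CategoryTheory IsLocalRing TensorProduct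

namespace Groth.Agent.SyntDesc12

/-- The fibre rings along a composite of local homomorphisms `A → B → C`, with `C` flat over `B`. -/
theorem ci_fibre_comp {A B C : Type u} [CommRing A] [CommRing B] [CommRing C] [IsLocalRing A] [IsLocalRing B]
    [IsLocalRing C] (ψ : A →+* B) (φ : B →+* C) [IsLocalHom ψ] [IsLocalHom φ] (hφ : φ.Flat)
    [IsNoetherianRing (B ⧸ (maximalIdeal A).map ψ)] [IsNoetherianRing (C ⧸ (maximalIdeal A).map (φ.comp ψ))]
    [IsLocalRing (B ⧸ (maximalIdeal A).map ψ)] [IsLocalRing (C ⧸ (maximalIdeal A).map (φ.comp ψ))]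
    [IsLocalRing (C ⧸ (maximalIdeal B).map φ)] :
    Pi1.IsCompleteIntersection (C ⧸ (maximalIdeal A).map (φ.comp ψ)) ↔
      Pi1.IsCompleteIntersection (B ⧸ (maximalIdeal A).map ψ) ∧
        Pi1.IsCompleteIntersection (C ⧸ (maximalIdeal B).map φ) := by
  let I := (maximalIdeal A).map ψ
  have hIm : I ≤ maximalIdeal B := map_maximalIdeal_le ψ
  have hJ : (maximalIdeal A).map (φ.comp ψ) = I.map φ := (Ideal.map_map ψ φ).symm
  haveI : IsNoetherianRing (C ⧸ I.map φ) :=
    isNoetherianRing_of_ringEquiv (C ⧸ (maximalIdeal A).map (φ.comp ψ)) (Ideal.quotEquivOfEq hJ)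
  haveI : Nontrivial (C ⧸ I.map φ) :=
    Ideal.Quotient.nontrivial_iff.2 fun h => (maximalIdeal.isMaximal C).ne_top
      (top_le_iff.1 (h ▸ (Ideal.map_mono hIm).trans (map_maximalIdeal_le φ)))
  haveI : IsLocalRing (C ⧸ I.map φ) := .of_surjective' (Ideal.Quotient.mk _) Ideal.Quotient.mk_surjective
  rw [AvramovLib.isCI_ringEquiv_iff (Ideal.quotEquivOfEq hJ)]
  letI : Algebra B C := φ.toAlgebra
  haveI : Module.Flat B C := hφ
  haveI : Module.Flat (B ⧸ I) (C ⧸ I.map (algebraMap B C)) :=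
    Module.Flat.of_linearEquiv (((TensorProduct.quotTensorEquivQuotSMul C I).trans
      ((Submodule.quotEquivOfEq _ _ (Ideal.smul_top_eq_map I)).trans
        (Submodule.Quotient.restrictScalarsEquiv B _))).extendScalarsOfSurjective
          Ideal.Quotient.mk_surjective).symm
  haveI : IsLocalRing (C ⧸ I.map (algebraMap B C)) := ‹IsLocalRing (C ⧸ I.map φ)›
  haveI : IsNoetherianRing (C ⧸ I.map (algebraMap B C)) := ‹IsNoetherianRing (C ⧸ I.map φ)›
  haveI : IsLocalHom (algebraMap (B ⧸ I) (C ⧸ I.map (algebraMap B C))) := by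
    constructor
    intro b hb
    obtain ⟨b, rfl⟩ := Ideal.Quotient.mk_surjective b
    have hb' : IsUnit (Ideal.Quotient.mk (I.map φ) (φ b)) := hb
    haveI : IsLocalHom (Ideal.Quotient.mk (I.map φ)) := IsLocalHom.of_surjective _ Ideal.Quotient.mk_surjective
    exact (isUnit_of_map_unit φ b (isUnit_of_map_unit _ _ hb')).map _
  have hmB : maximalIdeal (B ⧸ I) = (maximalIdeal B).map (Ideal.Quotient.mk I) :=
    (IsLocalRing.map_maximalIdeal_of_surjective _ Ideal.Quotient.mk_surjective).symm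
  let e : ((C ⧸ I.map (algebraMap B C)) ⧸ (maximalIdeal (B ⧸ I)).map
      (algebraMap (B ⧸ I) (C ⧸ I.map (algebraMap B C)))) ≃+* C ⧸ (maximalIdeal B).map φ := by
    refine (Ideal.quotEquivOfEq (show (maximalIdeal (B ⧸ I)).map (algebraMap (B ⧸ I) (C ⧸ I.map (algebraMap B C))) =
      ((maximalIdeal B).map φ).map (Ideal.Quotient.mk (I.map φ)) from ?_)).trans
      (DoubleQuot.quotQuotEquivQuotOfLE (Ideal.map_mono hIm))
    rw [hmB]
    exact (Ideal.map_map (Ideal.Quotient.mk I) (algebraMap (B ⧸ I) (C ⧸ I.map (algebraMap B C)))).trans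
      (Ideal.map_map φ (Ideal.Quotient.mk (I.map φ))).symm
  haveI := e.symm.isLocalRing
  haveI : IsNoetherianRing (C ⧸ (maximalIdeal B).map φ) := isNoetherianRing_of_ringEquiv _ e
  rw [← AvramovLib.isCI_ringEquiv_iff e]
  exact AvramovLib.avramov (A := B ⧸ I) (B := C ⧸ I.map (algebraMap B C))

variable {X Y S : Scheme.{u}}

theorem isLocalRing_fibre (f : X ⟶ Y) (x : X) (y : Y) (h : f x = y) :
    IsLocalRing (↑(X.presheaf.stalk x) ⧸ (maximalIdeal (Y.presheaf.stalk y)).map (FibFlat.sm f x y h)) := by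
  subst h
  exact (Triage.CMMor.exists_equiv_fibre_stalk_aux f x (f x) rfl (f.asFiber x)
    (f.fiberι_asFiber x)).some.symm.isLocalRing

theorem ci_map_congr {A C : Type u} [CommRing A] [CommRing C] [IsLocalRing A] {ψ ψ' : A →+* C}
    [IsLocalRing (C ⧸ (maximalIdeal A).map ψ)] [IsLocalRing (C ⧸ (maximalIdeal A).map ψ')] (h : ψ = ψ') :
    Pi1.IsCompleteIntersection (C ⧸ (maximalIdeal A).map ψ) ↔
      Pi1.IsCompleteIntersection (C ⧸ (maximalIdeal A).map ψ') := by
  subst h
  exact Iff.rfl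

theorem isCI_fiberStalk_iff (f : X ⟶ Y) [LocallyOfFiniteType f] (x : X) (y : Y) (h : f x = y) :
    Pi1.IsCompleteIntersection (CInt.fiberStalk f x) ↔
      (haveI := isLocalRing_fibre f x y h
       Pi1.IsCompleteIntersection
        (↑(X.presheaf.stalk x) ⧸ (maximalIdeal (Y.presheaf.stalk y)).map (FibFlat.sm f x y h))) := by
  subst h
  haveI := isLocalRing_fibre f x (f x) rfl
  haveI : LocallyOfFiniteType (f.fiberToSpecResidueField (f x)) :=
    MorphismProperty.pullback_snd (P := @LocallyOfFiniteType) f _ inferInstance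
  haveI : IsLocallyNoetherian (f.fiber (f x)) :=
    LocallyOfFiniteType.isLocallyNoetherian (f.fiberToSpecResidueField (f x))
  haveI := Triage.CMMor.isNoetherianRing_fibre_stalk_sm f x (f x) rfl inferInstance
  obtain ⟨e⟩ := Triage.CMMor.exists_equiv_fibre_stalk_aux f x (f x) rfl (f.asFiber x) (f.fiberι_asFiber x)
  exact (AvramovLib.isCI_ringEquiv_iff e).symm

theorem isNoetherian_fibre (f : X ⟶ Y) [LocallyOfFiniteType f] (x : X) (y : Y) (h : f x = y) :
    IsNoetherianRing (↑(X.presheaf.stalk x) ⧸ (maximalIdeal (Y.presheaf.stalk y)).map (FibFlat.sm f x y h)) := by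
  haveI : LocallyOfFiniteType (f.fiberToSpecResidueField y) :=
    MorphismProperty.pullback_snd (P := @LocallyOfFiniteType) f _ inferInstance
  exact Triage.CMMor.isNoetherianRing_fibre_stalk_sm f x y h
    (LocallyOfFiniteType.isLocallyNoetherian (f.fiberToSpecResidueField y))

theorem ci_comp_iff (f : X ⟶ Y) (q : Y ⟶ S) [Flat f] [LocallyOfFiniteType f] [LocallyOfFiniteType q] (x : X) :
    Pi1.IsCompleteIntersection (CInt.fiberStalk (f ≫ q) x) ↔
      Pi1.IsCompleteIntersection (CInt.fiberStalk q (f x)) ∧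
        Pi1.IsCompleteIntersection (CInt.fiberStalk f x) := by
  have hc : (f ≫ q) x = q (f x) := rfl
  rw [isCI_fiberStalk_iff (f ≫ q) x (q (f x)) hc, isCI_fiberStalk_iff q (f x) (q (f x)) rfl,
    isCI_fiberStalk_iff f x (f x) rfl]
  haveI := isLocalRing_fibre (f ≫ q) x (q (f x)) hc
  haveI := isLocalRing_fibre q (f x) (q (f x)) rfl
  haveI := isLocalRing_fibre f x (f x) rfl
  haveI : IsNoetherianRing (↑(Y.presheaf.stalk (f x)) ⧸
      (maximalIdeal (S.presheaf.stalk (q (f x)))).map (q.stalkMap (f x)).hom) := by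
    rw [← FibFlat.sm_self q (f x)]
    exact isNoetherian_fibre q (f x) (q (f x)) rfl
  haveI : IsLocalRing (↑(Y.presheaf.stalk (f x)) ⧸
      (maximalIdeal (S.presheaf.stalk (q (f x)))).map (q.stalkMap (f x)).hom) := by
    rw [← FibFlat.sm_self q (f x)]
    exact isLocalRing_fibre q (f x) (q (f x)) rfl
  haveI : IsLocalRing (↑(X.presheaf.stalk x) ⧸
      (maximalIdeal (Y.presheaf.stalk (f x))).map (f.stalkMap x).hom) := by
    rw [← FibFlat.sm_self f x]
    exact isLocalRing_fibre f x (f x) rfl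
  haveI : IsNoetherianRing (↑(X.presheaf.stalk x) ⧸
      (maximalIdeal (S.presheaf.stalk (q (f x)))).map
        ((f.stalkMap x).hom.comp (q.stalkMap (f x)).hom)) := by
    have := isNoetherian_fibre (f ≫ q) x (q (f x)) hc
    rwa [FibFlat.sm_comp f q x (f x) (q (f x)) rfl rfl, FibFlat.sm_self, FibFlat.sm_self] at this
  haveI : IsLocalRing (↑(X.presheaf.stalk x) ⧸
      (maximalIdeal (S.presheaf.stalk (q (f x)))).map
        ((f.stalkMap x).hom.comp (q.stalkMap (f x)).hom)) := by
    have := isLocalRing_fibre (f ≫ q) x (q (f x)) hc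
    rwa [FibFlat.sm_comp f q x (f x) (q (f x)) rfl rfl, FibFlat.sm_self, FibFlat.sm_self] at this
  rw [ci_map_congr (FibFlat.sm_self q (f x)), ci_map_congr (FibFlat.sm_self f x),
    ci_map_congr (show FibFlat.sm (f ≫ q) x (q (f x)) hc = (f.stalkMap x).hom.comp (q.stalkMap (f x)).hom by
      rw [FibFlat.sm_comp f q x (f x) (q (f x)) rfl rfl, FibFlat.sm_self, FibFlat.sm_self])]
  exact ci_fibre_comp (q.stalkMap (f x)).hom (f.stalkMap x).hom (Flat.stalkMap f x)

theorem isCIMorphism_of_comp (f : X ⟶ Y) (q : Y ⟶ S) [Surjective f] [Flat f]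
    [LocallyOfFinitePresentation f] (h : CInt.IsCIMorphism (f ≫ q)) :
    CInt.IsCIMorphism q ∧ CInt.IsCIMorphism f := by
  obtain ⟨hfl, hfp, hci⟩ := h
  haveI := hfl
  haveI := hfp
  haveI := Groth.Agent.S0114.result f q
  haveI : Flat q := by
    refine Flat.of_stalkMap q fun y => ?_
    obtain ⟨x, rfl⟩ := f.surjective y
    have h1 := Flat.stalkMap (f ≫ q) x
    rw [Scheme.Hom.stalkMap_comp] at h1
    exact Triage.CMMor.flat_of_comp _ (f.stalkMap x).hom (Flat.stalkMap f x) h1
  refine ⟨⟨inferInstance, inferInstance, fun y => ?_⟩, ⟨inferInstance, inferInstance, fun x => ?_⟩⟩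
  · obtain ⟨x, rfl⟩ := f.surjective y
    exact ((ci_comp_iff f q x).mp (hci x)).1
  · exact ((ci_comp_iff f q x).mp (hci x)).2

end Groth.Agent.SyntDesc12
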